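import Mathlib

/-!
Automorphisms of transitive and doubly transitive groups and the normaliser in the symmetric group.
-/

set_option autoImplicit false

namespace Cfsg.Agent.Lib.TwoTransAut

variable {Ω : Type*} [Fintype Ω] {G : Subgroup (Equiv.Perm Ω)}

/-- An automorphism of a transitive group carrying a stabiliser to a subgroup fixing a point is
induced by the normaliser in the symmetric group. -/
theorem exists_conj_of_fixed (htr : MulAction.IsPretransitive G Ω) (o ω : Ω) (α : G ≃* G)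
    (h : ∀ g : G, g • o = o → α g • ω = ω) :
    ∃ σ : Equiv.Perm Ω, σ ∈ Subgroup.normalizer (G : Set (Equiv.Perm Ω)) ∧
      ∀ g : G, ((α g : G) : Equiv.Perm Ω) = σ * (g : Equiv.Perm Ω) * σ⁻¹ := by
  classical
  choose t ht using fun x : Ω => htr.exists_smul_eq o x
  let f : Ω → Ω := fun x => α (t x) • ω
  have key : ∀ (g : G) (x : Ω), g • o = x → f x = α g • ω := by
    intro g x hg
    have hfix := h (g⁻¹ * t x) (by rw [mul_smul, ht, ← hg, inv_smul_smul])
    calc f x = α (g * (g⁻¹ * t x)) • ω := by rw [mul_inv_cancel_left]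
      _ = α g • ω := by rw [map_mul, mul_smul, hfix]
  have hsurj : Function.Surjective f := fun y => by
    obtain ⟨g, hg⟩ := htr.exists_smul_eq ω y
    exact ⟨α.symm g • o, by rw [key (α.symm g) _ rfl, α.apply_symm_apply, hg]⟩
  let σ : Equiv.Perm Ω := Equiv.ofBijective f ((Finite.surjective_iff_bijective).mp hsurj)
  have hσ : ∀ (g : G) (x : Ω), σ (g • x) = α g • σ x := fun g x => by
    show f (g • x) = α g • f x
    rw [key (g * t x) _ (by rw [mul_smul, ht]), map_mul, mul_smul]
  have hconj : ∀ g : G, ((α g : G) : Equiv.Perm Ω) = σ * (g : Equiv.Perm Ω) * σ⁻¹ := fun g =>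
    eq_mul_inv_of_mul_eq (Equiv.ext fun x => (hσ g x).symm)
  refine ⟨σ, ?_, hconj⟩
  rw [Subgroup.mem_normalizer_iff]
  intro x
  refine ⟨fun hx => (show σ * x * σ⁻¹ ∈ G from hconj ⟨x, hx⟩ ▸ (α ⟨x, hx⟩).2), fun hx => ?_⟩
  have h1 := hconj (α.symm ⟨_, hx⟩)
  rw [α.apply_symm_apply] at h1
  have : x = ((α.symm ⟨_, hx⟩ : G) : Equiv.Perm Ω) := mul_left_cancel (mul_right_cancel h1)
  rw [this]
  exact (α.symm ⟨_, hx⟩).2

/-- Arithmetic at the heart of the design argument. -/
theorem eq_one_or_eq_pred {n k s a b : ℤ} {j : ℕ} (hk : 0 < k) (hkn : k < n)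
    (hs : 0 ≤ s) (hcop : IsCoprime k n) {l : ℤ} (hl : 0 ≤ l) (hst : s ^ 2 = k - l)
    (hkk : k ^ 2 = k - l + n * l) (ha : a ^ 2 = ((s ^ 2) ^ (2 * j + 1))) (hsum : k ^ (2 * j + 1) = a + b * n) :
    k = 1 ∨ k = n - 1 := by
  have h2 : n ∣ k ^ 2 - s ^ 2 := ⟨l, by rw [hst]; linarith⟩
  have h2j : n ∣ k ^ (2 * j) - s ^ (2 * j) := by
    rw [pow_mul, pow_mul]
    exact h2.trans (sub_dvd_pow_sub_pow (k ^ 2) (s ^ 2) j)
  have hcopj : IsCoprime (k ^ (2 * j)) n := hcop.pow_left
  have hdiv : n ∣ k - s ∨ n ∣ k + s := by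
    have ha' : a = s ^ (2 * j + 1) ∨ a = -(s ^ (2 * j + 1)) := by
      apply eq_or_eq_neg_of_sq_eq_sq
      rw [ha, ← pow_mul, ← pow_mul, mul_comm 2]
    rcases ha' with e | e
    · left
      refine hcopj.symm.dvd_of_dvd_mul_left ?_
      have : k ^ (2 * j) * (k - s) = b * n - (k ^ (2 * j) - s ^ (2 * j)) * s := by
        have := hsum; rw [e, pow_succ, pow_succ] at this
        linear_combination this
      rw [this]
      exact dvd_sub (dvd_mul_left n b) (h2j.mul_right s)
    · right
      refine hcopj.symm.dvd_of_dvd_mul_left ?_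
      have : k ^ (2 * j) * (k + s) = b * n + (k ^ (2 * j) - s ^ (2 * j)) * s := by
        have := hsum; rw [e, pow_succ, pow_succ] at this
        linear_combination this
      rw [this]
      exact dvd_add (dvd_mul_left n b) (h2j.mul_right s)
  have hsk : s ≤ k := by nlinarith [sq_nonneg (s - 1)]
  rcases eq_or_lt_of_le hsk with e | hlt
  · subst e; left; nlinarith
  rcases hdiv with ⟨c, hc⟩ | ⟨c, hc⟩
  · exfalso
    rcases le_or_gt c 0 with h | h
    · nlinarith
    · nlinarith
  · have hc1 : c = 1 := by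
      have h1 : 0 < c := by
        by_contra h
        push Not at h
        nlinarith
      have h2 : c < 2 := by
        by_contra h
        push Not at h
        nlinarith
      omega
    subst hc1
    right
    have hl' : l = k - s := by
      have : n * l = n * (k - s) := by linear_combination hst - hkk + (k - s) * hc
      exact mul_left_cancel₀ (by omega) this
    have hs1 : s * (s - 1) = 0 := by rw [hl'] at hst; linear_combination hst
    rcases mul_eq_zero.mp hs1 with h | h
    · exfalso; linarith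
    · linarith

theorem mul_transpose_pow [DecidableEq Ω] {M : Matrix Ω Ω ℤ} {t l k : ℤ}
    (hMM : M * M.transpose = t • (1 : Matrix Ω Ω ℤ) + l • Matrix.of fun _ _ => (1 : ℤ))
    (hrow : ∀ x, ∑ y, M x y = k) :
    ∀ i : ℕ, ∃ c : ℤ, M ^ i * (M ^ i).transpose =
      t ^ i • (1 : Matrix Ω Ω ℤ) + c • Matrix.of fun _ _ => (1 : ℤ) := by
  intro i
  induction i with
  | zero => exact ⟨0, by simp⟩
  | succ i ih =>
    obtain ⟨c, hc⟩ := ih
    refine ⟨t ^ i * l + c * (k * k), ?_⟩
    have hJ : M * (Matrix.of fun _ _ => (1 : ℤ)) * M.transpose =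
        (k * k) • Matrix.of fun _ _ => (1 : ℤ) := by
      ext x y
      simp [Matrix.mul_apply, hrow, ← Finset.mul_sum, ← Finset.sum_mul]
    rw [pow_succ' M, Matrix.transpose_mul, show M * M ^ i * ((M ^ i).transpose * M.transpose) =
      M * (M ^ i * (M ^ i).transpose) * M.transpose by simp only [Matrix.mul_assoc], hc,
      mul_add, add_mul, Matrix.mul_smul, Matrix.smul_mul, mul_one, hMM, Matrix.mul_smul,
      Matrix.smul_mul, hJ, smul_add, smul_smul, smul_smul, smul_smul, ← pow_succ, add_smul]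
    abel

theorem smul_one_add_smul_ones_apply [DecidableEq Ω] (s c : ℤ) (x y : Ω) :
    (s • (1 : Matrix Ω Ω ℤ) + c • Matrix.of (fun _ _ => (1 : ℤ)) : Matrix Ω Ω ℤ) x y = (if x = y then s else 0) + c := by
  rw [Matrix.add_apply, Matrix.smul_apply, Matrix.smul_apply, Matrix.one_apply, Matrix.of_apply]
  split_ifs <;> simp

/-- For a doubly transitive group and an automorphism of odd order, an orbit of the image of a
stabiliser of length coprime to the degree has length `1` or `n - 1`. -/
theorem orbit_length (h2 : MulAction.IsMultiplyPretransitive G Ω 2) (o : Ω) (α : MulAut G)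
    (hα : Odd (orderOf α)) (ω : Ω)
    (hk : ({y | ∃ g : G, g • o = o ∧ α g • ω = y} : Set Ω).ncard.Coprime (Fintype.card Ω)) :
    ({y | ∃ g : G, g • o = o ∧ α g • ω = y} : Set Ω).ncard = 1 ∨
      ({y | ∃ g : G, g • o = o ∧ α g • ω = y} : Set Ω).ncard = Fintype.card Ω - 1 := by
  classical
  have h2' : ∀ {a b c d : Ω}, a ≠ b → c ≠ d → ∃ g : G, g • a = c ∧ g • b = d :=
    MulAction.is_two_pretransitive_iff.mp h2
  haveI htr : MulAction.IsPretransitive G Ω := @MulAction.isPretransitive_of_is_two_pretransitive _ _ _ _ h2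
  set O : Set Ω := {y | ∃ g : G, g • o = o ∧ α g • ω = y} with hO
  have hωO : ω ∈ O := ⟨1, one_smul _ _, by rw [map_one, one_smul]⟩
  have hpos : 0 < O.ncard := (Set.ncard_pos (Set.toFinite O)).mpr ⟨ω, hωO⟩
  have hle : O.ncard ≤ Fintype.card Ω := by
    rw [← Nat.card_eq_fintype_card, ← Set.ncard_univ]; exact Set.ncard_le_ncard (Set.subset_univ O)
  rcases eq_or_lt_of_le hle with heq | hlt
  · left
    rw [heq, Nat.coprime_self] at hk
    omega
  obtain ⟨z, hz⟩ : ∃ z, z ≠ o := Fintype.exists_ne_of_one_lt_card (by omega) o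
  let R : Ω → Ω → Prop := fun x y => ∃ g : G, g • o = x ∧ α g • ω = y
  have hR : ∀ (g : G) x y, R x y → R (g • x) (α g • y) := by
    rintro g x y ⟨u, h1, h3⟩
    exact ⟨g * u, by rw [mul_smul, h1], by rw [map_mul, mul_smul, h3]⟩
  have hR' : ∀ (g : G) x y, R (g • x) (α g • y) ↔ R x y := fun g x y =>
    ⟨fun h => by simpa [← mul_smul] using hR g⁻¹ _ _ h, hR g x y⟩
  let M : Matrix Ω Ω ℤ := Matrix.of fun x y => if R x y then 1 else 0
  have hM : ∀ (g : G) x y, M (g • x) (α g • y) = M x y := fun g x y => by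
    simp only [M, Matrix.of_apply, hR' g x y]
  have hrowo : ∑ y, M o y = (O.ncard : ℤ) := by
    show ∑ y, (if R o y then (1 : ℤ) else 0) = _
    rw [Finset.sum_boole, Set.ncard_eq_toFinset_card']
    refine congrArg _ (congrArg Finset.card ?_)
    ext y
    simp [R, hO]
  have hrow : ∀ x, ∑ y, M x y = (O.ncard : ℤ) := by
    intro x
    obtain ⟨g, rfl⟩ := htr.exists_smul_eq o x
    rw [← hrowo, ← Equiv.sum_comp (MulAction.toPerm (α g))]
    exact Finset.sum_congr rfl fun y _ => hM g o y
  have hcolinv : ∀ y y', ∑ x, M x y = ∑ x, M x y' := by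
    intro y y'
    obtain ⟨g, rfl⟩ := htr.exists_smul_eq y y'
    rw [← Equiv.sum_comp (MulAction.toPerm (α.symm g)) (fun x => M x (g • y))]
    refine Finset.sum_congr rfl fun x _ => ?_
    show M x y = M (α.symm g • x) (g • y)
    conv_rhs => rw [← α.apply_symm_apply g, α.symm_apply_apply]
    exact (hM (α.symm g) x y).symm
  have hcol : ∀ y, ∑ x, M x y = (O.ncard : ℤ) := by
    intro y
    have h1 : ∑ y', ∑ x, M x y' = (Fintype.card Ω : ℤ) * O.ncard := by
      rw [Finset.sum_comm]; simp [hrow]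
    rw [Finset.sum_congr rfl fun y' _ => hcolinv y' y, Finset.sum_const, Finset.card_univ,
      nsmul_eq_mul] at h1
    exact mul_left_cancel₀ (by exact_mod_cast (by omega : Fintype.card Ω ≠ 0)) h1
  set P : Matrix Ω Ω ℤ := M * M.transpose with hP
  have hPinv : ∀ (g : G) x x', P (g • x) (g • x') = P x x' := by
    intro g x x'
    simp only [hP, Matrix.mul_apply, Matrix.transpose_apply]
    rw [← Equiv.sum_comp (MulAction.toPerm (α g))]
    exact Finset.sum_congr rfl fun y _ => by
      show M (g • x) (α g • y) * M (g • x') (α g • y) = _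
      rw [hM, hM]
  have hPd : ∀ x, P x x = (O.ncard : ℤ) := fun x => by
    rw [← hrow x, hP, Matrix.mul_apply]
    exact Finset.sum_congr rfl fun y _ => by
      simp only [Matrix.transpose_apply, M, Matrix.of_apply]; split_ifs <;> simp
  set l := P o z with hl
  have hl0 : 0 ≤ l := by
    rw [hl, hP, Matrix.mul_apply]
    exact Finset.sum_nonneg fun y _ => by
      simp only [Matrix.transpose_apply, M, Matrix.of_apply]; split_ifs <;> simp
  have hlk : l ≤ (O.ncard : ℤ) := by
    rw [hl, ← hPd o, hP, Matrix.mul_apply, Matrix.mul_apply]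
    exact Finset.sum_le_sum fun y _ => by
      simp only [Matrix.transpose_apply, M, Matrix.of_apply]; split_ifs <;> simp
  have hMM : M * M.transpose = ((O.ncard : ℤ) - l) • (1 : Matrix Ω Ω ℤ) +
      l • Matrix.of fun _ _ => (1 : ℤ) := by
    ext x x'
    show P x x' = _
    by_cases hxx : x = x'
    · subst hxx; rw [smul_one_add_smul_ones_apply, hPd, if_pos rfl]; ring
    · obtain ⟨g, hgo, hgz⟩ := h2' hz.symm hxx
      rw [smul_one_add_smul_ones_apply, if_neg hxx, ← hgo, ← hgz, hPinv, zero_add]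
  have hkk : (O.ncard : ℤ) ^ 2 = (O.ncard : ℤ) - l + (Fintype.card Ω : ℤ) * l := by
    have h1 : ∑ x', P o x' = (O.ncard : ℤ) ^ 2 := by
      simp only [hP, Matrix.mul_apply, Matrix.transpose_apply]
      rw [Finset.sum_comm]
      simp only [← Finset.mul_sum, hcol, ← Finset.sum_mul, hrow, sq]
    rw [← h1, show P = M * M.transpose from rfl, hMM]
    simp only [smul_one_add_smul_ones_apply, Finset.sum_add_distrib, Finset.sum_ite_eq,
      Finset.mem_univ, if_true, Finset.sum_const, Finset.card_univ, nsmul_eq_mul]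
  -- going once around the cycle of `α`
  have hpow : ∀ (i : ℕ) (g : G) x y, (M ^ i) (g • x) ((α ^ i) g • y) = (M ^ i) x y := by
    intro i
    induction i with
    | zero =>
      intro g x y
      simp [Matrix.one_apply]
    | succ i ih =>
      intro g x y
      rw [pow_succ M, Matrix.mul_apply, Matrix.mul_apply, ← Equiv.sum_comp (MulAction.toPerm ((α ^ i) g))]
      refine Finset.sum_congr rfl fun w _ => ?_
      show (M ^ i) (g • x) ((α ^ i) g • w) * M ((α ^ i) g • w) ((α ^ (i + 1)) g • y) = _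
      rw [ih, pow_succ', MulAut.mul_apply, hM]
  obtain ⟨j, hj⟩ := hα
  set m := orderOf α
  have hNinv : ∀ (g : G) x y, (M ^ m) (g • x) (g • y) = (M ^ m) x y := fun g x y => by
    have := hpow m g x y
    rwa [pow_orderOf_eq_one, MulAut.one_apply] at this
  set a := (M ^ m) o o - (M ^ m) o z with ha
  set b := (M ^ m) o z with hb
  have hN : M ^ m = a • (1 : Matrix Ω Ω ℤ) + b • Matrix.of fun _ _ => (1 : ℤ) := by
    ext x y
    by_cases hxy : x = y
    · subst hxy
      obtain ⟨g, rfl⟩ := htr.exists_smul_eq o x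
      rw [smul_one_add_smul_ones_apply, hNinv, if_pos rfl, ha, hb]; ring
    · obtain ⟨g, hgo, hgz⟩ := h2' hz.symm hxy
      rw [smul_one_add_smul_ones_apply, if_neg hxy, ← hgo, ← hgz, hNinv, zero_add]
  have hrowpow : ∀ i : ℕ, ∀ x, ∑ y, (M ^ i) x y = (O.ncard : ℤ) ^ i := by
    intro i
    induction i with
    | zero => intro x; simp [Matrix.one_apply]
    | succ i ih =>
      intro x
      simp only [pow_succ M, Matrix.mul_apply]
      rw [Finset.sum_comm]
      simp only [← Finset.mul_sum, hrow, ← Finset.sum_mul, ih, pow_succ]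
  have hsum : (O.ncard : ℤ) ^ (2 * j + 1) = a + b * (Fintype.card Ω : ℤ) := by
    rw [← hj, ← hrowpow m o, hN]
    simp only [smul_one_add_smul_ones_apply, Finset.sum_add_distrib, Finset.sum_ite_eq,
      Finset.mem_univ, if_true, Finset.sum_const, Finset.card_univ, nsmul_eq_mul]
    ring
  obtain ⟨c, hc⟩ := mul_transpose_pow hMM hrow m
  have hsq : a ^ 2 = ((O.ncard : ℤ) - l) ^ m := by
    rw [hN] at hc
    have e1 := congrFun (congrFun hc o) o
    have e2 := congrFun (congrFun hc o) z
    simp only [Matrix.mul_apply, Matrix.transpose_apply, smul_one_add_smul_ones_apply, add_mul, mul_add,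
      Finset.sum_add_distrib, ite_mul, mul_ite, zero_mul, mul_zero, Finset.sum_ite_eq,
      Finset.sum_ite_eq', Finset.mem_univ, if_true, if_neg hz.symm, if_neg hz, Finset.sum_const,
      Finset.card_univ, nsmul_eq_mul] at e1 e2
    linear_combination e1 - e2
  obtain ⟨s, hs⟩ : IsSquare ((O.ncard : ℤ) - l).natAbs := by
    have h1 : a.natAbs ^ 2 = ((O.ncard : ℤ) - l).natAbs ^ (2 * j + 1) := by
      rw [← Int.natAbs_pow, ← Int.natAbs_pow, hsq, hj]
    set t := ((O.ncard : ℤ) - l).natAbs
    rcases Nat.eq_zero_or_pos t with ht0 | ht0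
    · exact ⟨0, by omega⟩
    replace h1 : a.natAbs ^ 2 = (t ^ j) ^ 2 * t := by rw [h1, ← pow_mul]; ring
    obtain ⟨d, hd⟩ := (Nat.pow_dvd_pow_iff (two_ne_zero)).mp (Dvd.intro t h1.symm)
    refine ⟨d, ?_⟩
    rw [hd, mul_pow] at h1
    have := mul_left_cancel₀ (pow_ne_zero 2 (pow_ne_zero j ht0.ne')) h1
    rw [← sq]; exact this.symm
  have hst : ((s : ℕ) : ℤ) ^ 2 = (O.ncard : ℤ) - l := by
    rw [sq, ← Nat.cast_mul, ← hs, Int.natAbs_of_nonneg (by linarith)]
  have := eq_one_or_eq_pred (n := (Fintype.card Ω : ℤ)) (k := (O.ncard : ℤ)) (s := (s : ℤ))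
    (a := a) (b := b) (j := j) (by exact_mod_cast hpos) (by exact_mod_cast hlt) (Int.natCast_nonneg s)
    (Nat.Coprime.isCoprime hk) hl0 hst hkk (by rw [hst, hsq, hj]) hsum
  rcases this with h | h
  · left; exact_mod_cast h
  · right
    have h' : ((O.ncard : ℕ) : ℤ) = (Fintype.card Ω : ℤ) - 1 := h
    omega

/-- An odd-order automorphism with a coprime orbit is induced by the normaliser. -/
theorem exists_conj_of_coprime (h2 : MulAction.IsMultiplyPretransitive G Ω 2) (o : Ω) (α : MulAut G)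
    (hα : Odd (orderOf α)) (ω : Ω)
    (hk : ({y | ∃ g : G, g • o = o ∧ α g • ω = y} : Set Ω).ncard.Coprime (Fintype.card Ω)) :
    ∃ σ : Equiv.Perm Ω, σ ∈ Subgroup.normalizer (G : Set (Equiv.Perm Ω)) ∧
      ∀ g : G, ((α g : G) : Equiv.Perm Ω) = σ * (g : Equiv.Perm Ω) * σ⁻¹ := by
  classical
  have htr : MulAction.IsPretransitive G Ω := @MulAction.isPretransitive_of_is_two_pretransitive _ _ _ _ h2
  set O : Set Ω := {y | ∃ g : G, g • o = o ∧ α g • ω = y} with hO
  rcases (show O.ncard = 1 ∨ O.ncard = Fintype.card Ω - 1 from orbit_length h2 o α hα ω hk) with h1 | h1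
  · obtain ⟨w, hw⟩ := Set.ncard_eq_one.mp h1
    refine exists_conj_of_fixed htr o ω α fun g hg => ?_
    have ha : α g • ω ∈ O := ⟨g, hg, rfl⟩
    have hb : ω ∈ O := ⟨1, one_smul _ _, by rw [map_one, one_smul]⟩
    rw [hw, Set.mem_singleton_iff] at ha hb
    exact ha.trans hb.symm
  · have h3 : Oᶜ.ncard = 1 := by
      have := Set.ncard_add_ncard_compl O
      rw [Nat.card_eq_fintype_card] at this
      have : 0 < Fintype.card Ω := Fintype.card_pos_iff.mpr ⟨ω⟩
      omega
    obtain ⟨w, hw⟩ := Set.ncard_eq_one.mp h3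
    refine exists_conj_of_fixed htr o w α fun g hg => ?_
    have hmem : α g • w ∈ Oᶜ := by
      rintro ⟨u, hu, hu'⟩
      have hwO : w ∈ O := ⟨g⁻¹ * u, by rw [mul_smul, hu]; exact inv_smul_eq_iff.mpr hg.symm,
        by rw [map_mul, map_inv, mul_smul, hu', inv_smul_smul]⟩
      exact (hw.ge rfl : w ∈ Oᶜ) hwO
    rw [hw] at hmem
    exact hmem

end Cfsg.Agent.Lib.TwoTransAut
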